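import Cfsg.Agent.Lib.Chev.TwistTorusD4
import Cfsg.Agent.Lib.Chev.FieldAutFixed

/-!
# A three-dimensional action inside the adjoint module of D₄

`e 18, e 19, e 6` span a subspace stable under the centraliser of a suitable torus element of `³D₄`.
-/

set_option autoImplicit false

namespace Cfsg.Agent.TorusD4

open Cfsg.Lie Cfsg.Agent.Chev Cfsg.Agent.Chev.BNSetup
open Matrix

variable {K : Type*} [Field K]

/-- The three roots. -/
def tri : Fin 3 → ℕ := ![18, 19, 6]

theorem tri_lt (i : Fin 3) : tri i < chevD4.nroots := by fin_cases i <;> decide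

/-- The three coordinates. -/
def co (i : Fin 3) : chevD4.Idx := Sum.inr ⟨tri i, tri_lt i⟩

/-- `g` acts on the three vectors by `A`. -/
def Act (g : GL chevD4.Idx K) (A : Matrix (Fin 3) (Fin 3) K) : Prop :=
  ∀ j, (g : Matrix chevD4.Idx chevD4.Idx K) *ᵥ bvec chevD4 K (chevD4.rank + tri j) =
    ∑ i, A i j • bvec chevD4 K (chevD4.rank + tri i)

/-- The submatrix on the three coordinates. -/
def sub3 (g : GL chevD4.Idx K) : Matrix (Fin 3) (Fin 3) K :=
  fun i j => (g : Matrix chevD4.Idx chevD4.Idx K) (co i) (co j)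

theorem bvec_tri (i : Fin 3) : bvec chevD4 K (chevD4.rank + tri i) = Pi.single (co i) 1 := by
  rw [show chevD4.rank + tri i = idxNat (co i) from
    (idxNat_inr (D := chevD4) ⟨tri i, tri_lt i⟩).symm, bvec_idxNat]

theorem co_inj : Function.Injective co := by
  intro i j h
  have h' : tri i = tri j := congrArg (fun x : chevD4.Idx => idxNat x - chevD4.rank) h |> fun e => by
    simpa [co, idxNat_inr] using e
  revert h'
  fin_cases i <;> fin_cases j <;> simp [tri]

theorem Act.eq_sub3 {g : GL chevD4.Idx K} {A : Matrix (Fin 3) (Fin 3) K} (h : Act g A) : A = sub3 g := by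
  ext i j
  have e := congrFun (h j) (co i)
  rw [bvec_tri j, Matrix.mulVec_single, Finset.sum_apply] at e
  simp only [Pi.smul_apply, bvec_tri, Pi.single_apply, co_inj.eq_iff, smul_eq_mul, mul_ite, mul_one,
    mul_zero, Finset.sum_ite_eq, Finset.mem_univ, if_true, MulOpposite.op_one, one_smul,
    Matrix.col_apply] at e
  exact e.symm

theorem Act.unique {g : GL chevD4.Idx K} {A B : Matrix (Fin 3) (Fin 3) K} (h : Act g A) (h' : Act g B) :
    A = B := h.eq_sub3.trans h'.eq_sub3.symm

theorem Act.one : Act (1 : GL chevD4.Idx K) 1 := by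
  intro j
  simp [Matrix.one_apply]

theorem Act.mul {g g' : GL chevD4.Idx K} {A B : Matrix (Fin 3) (Fin 3) K} (h : Act g A) (h' : Act g' B) :
    Act (g * g') (A * B) := by
  intro j
  rw [Units.val_mul, ← Matrix.mulVec_mulVec, h' j, Matrix.mulVec_sum]
  simp only [Matrix.mulVec_smul, h _, Finset.smul_sum, smul_smul, Matrix.mul_apply, Finset.sum_smul]
  rw [Finset.sum_comm]
  exact Finset.sum_congr rfl fun i _ => Finset.sum_congr rfl fun k _ => by rw [mul_comm]

/-- A root element whose columns at the three roots are as given. -/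
theorem act_xe {r : ℕ} (hr : r < chevD4.nroots) (t : K) (A : Matrix (Fin 3) (Fin 3) K)
    (h : ∀ j, colSem chevD4 t (D4.cert.col r (chevD4.rank + tri j)) =
      ∑ i, A i j • bvec chevD4 K (chevD4.rank + tri i)) : Act (xe D4.good r t) A := by
  intro j
  rw [coe_xe, D4.valid.mulVec_bvec hr, h j]

theorem act14 (t : K) : Act (xe D4.good 14 t) !![1, 0, 0; t, 1, 0; 0, 0, 1] := by
  refine act_xe (by decide) t _ fun j => ?_
  have e : ∀ j : Fin 3, D4.cert.col 14 (chevD4.rank + tri j) =
      ![[(22, 0, 1), (23, 1, 1)], [(23, 0, 1)], [(10, 0, 1)]] j := by decide +kernel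
  rw [e]
  fin_cases j <;> simp [colSem, Fin.sum_univ_three, tri, show chevD4.rank = 4 from rfl]

theorem act9 (t : K) : Act (xe D4.good 9 t) !![1, t, 0; 0, 1, 0; 0, 0, 1] := by
  refine act_xe (by decide) t _ fun j => ?_
  have e : ∀ j : Fin 3, D4.cert.col 9 (chevD4.rank + tri j) =
      ![[(22, 0, 1)], [(23, 0, 1), (22, 1, 1)], [(10, 0, 1)]] j := by decide +kernel
  rw [e]
  fin_cases j <;> simp [colSem, Fin.sum_univ_three, tri, show chevD4.rank = 4 from rfl, add_comm]

theorem act22 (t : K) : Act (xe D4.good 22 t) !![1, 0, -t; 0, 1, 0; 0, 0, 1] := by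
  refine act_xe (by decide) t _ fun j => ?_
  have e : ∀ j : Fin 3, D4.cert.col 22 (chevD4.rank + tri j) =
      ![[(22, 0, 1)], [(23, 0, 1)], [(10, 0, 1), (22, 1, -1)]] j := by decide +kernel
  rw [e]
  fin_cases j <;> simp [colSem, Fin.sum_univ_three, tri, show chevD4.rank = 4 from rfl, add_comm]

theorem act23 (t : K) : Act (xe D4.good 23 t) !![1, 0, 0; 0, 1, -t; 0, 0, 1] := by
  refine act_xe (by decide) t _ fun j => ?_
  have e : ∀ j : Fin 3, D4.cert.col 23 (chevD4.rank + tri j) =
      ![[(22, 0, 1)], [(23, 0, 1)], [(10, 0, 1), (23, 1, -1)]] j := by decide +kernel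
  rw [e]
  fin_cases j <;> simp [colSem, Fin.sum_univ_three, tri, show chevD4.rank = 4 from rfl, add_comm]

/-- The torus. -/
theorem act_torus (c : Fin chevD4.rank → Kˣ) :
    Act (torusHom K chevD4 c) (Matrix.diagonal fun j => ((torusChar chevD4 c (tri j) : Kˣ) : K)) := by
  intro j
  rw [coe_torusHom, hdiag_mulVec_inr chevD4 _ (tri_lt j)]
  fin_cases j <;> simp [Matrix.diagonal]

/-- The representative of the reflection in the central node. -/
theorem act_n1 : Act (ne' D4.good 14 (1 : K)) !![0, -1, 0; 1, 0, 0; 0, 0, 1] := by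
  have h := ((act14 (1 : K)).mul (act9 (-1))).mul (act14 (1 : K))
  rw [show ne' D4.good 14 (1 : K) = xe D4.good 14 (1 : K) * xe D4.good 9 (-1) * xe D4.good 14 1 by
    rw [ne', inv_one]; rfl]
  convert h using 1
  ext i j
  fin_cases i <;> fin_cases j <;> simp [Matrix.mul_apply, Fin.sum_univ_three]

end Cfsg.Agent.TorusD4
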