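import Cfsg.Agent.Lib.TorusD4.Setup

/-!
# The centraliser of a torus element of order `q³ - 1` in `³D₄(q)`
-/

set_option autoImplicit false

namespace Cfsg.Agent.TorusD4

open Cfsg.Lie Cfsg.Agent.Chev Cfsg.Agent.Chev.BNSetup
open Cfsg.Agent.RootBN (evWord)

variable {K : Type*} [Field K] (φ : K ≃+* K)

/-- The norm to the fixed field. -/
def nrm : K →* K where
  toFun x := x * φ x * φ (φ x)
  map_one' := by simp
  map_mul' a b := by simp only [map_mul]; ring

/-- All entries lie in the fixed field. -/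
def Fix3 (A : Matrix (Fin 3) (Fin 3) K) : Prop := ∀ i j, φ (A i j) = A i j

theorem Fix3.mul {A B : Matrix (Fin 3) (Fin 3) K} (hA : Fix3 φ A) (hB : Fix3 φ B) : Fix3 φ (A * B) := by
  intro i j
  simp only [Matrix.mul_apply, map_sum, map_mul, hA _ _, hB _ _]

/-- The image of the centraliser. -/
def Img (A : Matrix (Fin 3) (Fin 3) K) : Prop :=
  ∃ (u : Kˣ) (A' : Matrix (Fin 3) (Fin 3) K), Fix3 φ A' ∧ A = (u : K) • A' ∧ A'.det * nrm φ (u : K) = 1

theorem Img.mul {A B : Matrix (Fin 3) (Fin 3) K} (hA : Img φ A) (hB : Img φ B) : Img φ (A * B) := by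
  obtain ⟨u, A', h1, rfl, h2⟩ := hA
  obtain ⟨v, B', h3, rfl, h4⟩ := hB
  refine ⟨u * v, A' * B', h1.mul φ h3, ?_, ?_⟩
  · rw [smul_mul_assoc, mul_smul_comm, smul_smul, Units.val_mul]
  · rw [Matrix.det_mul, Units.val_mul, map_mul]
    linear_combination (B'.det * nrm φ (v : K)) * h2 + h4

theorem img_of_det {A : Matrix (Fin 3) (Fin 3) K} (hA : Fix3 φ A) (hd : A.det = 1) : Img φ A :=
  ⟨1, A, hA, by rw [Units.val_one, one_smul], by rw [hd, one_mul, Units.val_one, map_one]⟩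

theorem same_sign : ∀ r < 24, (∀ j ∈ [0, 2, 3], m r j = 0 ∨ m r j = 1) ∨
    (∀ j ∈ [0, 2, 3], m r j = 0 ∨ m r j = -1) := by decide +kernel

/-- The exponent of a root. -/
def ex (q : ℕ) (r : ℕ) : ℤ := m r 0 + q * m r 2 + (q : ℤ) ^ 2 * m r 3

theorem ex_abs {q r : ℕ} (hr : r < 24) : (ex q r).natAbs ≤ q ^ 2 + q + 1 := by
  have hq0 : (0 : ℤ) ≤ q := Int.natCast_nonneg q
  have hb : |ex q r| ≤ (q : ℤ) ^ 2 + q + 1 := by
    rw [abs_le, ex]
    rcases same_sign r hr with h | h <;>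
      rcases h 0 (by simp) with h0 | h0 <;> rcases h 2 (by simp) with h2 | h2 <;>
      rcases h 3 (by simp) with h3 | h3 <;> rw [h0, h2, h3] <;> constructor <;> nlinarith
  rw [← Nat.cast_le (α := ℤ), Int.natCast_natAbs]
  push_cast
  exact hb

theorem ex_eq_iff {q r : ℕ} (hq : 2 ≤ q) (hr : r < 24) :
    (ex q r = 0 → m r 0 = 0 ∧ m r 2 = 0 ∧ m r 3 = 0) ∧
      (ex q r = 1 → m r 0 = 1 ∧ m r 2 = 0 ∧ m r 3 = 0) := by
  have hq0 : (2 : ℤ) ≤ q := by exact_mod_cast hq
  have hq2 : (4 : ℤ) ≤ (q : ℤ) ^ 2 := by nlinarith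
  rw [ex]
  constructor <;> intro he <;>
    rcases same_sign r hr with h | h <;>
      rcases h 0 (by simp) with h0 | h0 <;> rcases h 2 (by simp) with h2 | h2 <;>
      rcases h 3 (by simp) with h3 | h3 <;> rw [h0, h2, h3] at he ⊢ <;>
      first | exact ⟨rfl, rfl, rfl⟩ | (exfalso; linarith)

/-- Words for the twelve elements of the Weyl group. -/
def words : List (List (Fin 2)) :=
  [[], [0], [1], [0, 1], [1, 0], [0, 1, 0], [1, 0, 1], [0, 1, 0, 1], [1, 0, 1, 0], [0, 1, 0, 1, 0],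
   [1, 0, 1, 0, 1], [0, 1, 0, 1, 0, 1]]

theorem exists_word (l : List (Fin 2)) :
    ∃ w ∈ words, (data D4.good K).wl ((tw φ).flat l) = (data D4.good K).wl ((tw φ).flat w) := by
  have hT := tw_axioms φ
  have tab : ∀ i : Fin 2, ∀ w ∈ words, ∃ w' ∈ words, ∀ k < 4,
      evWord WeylTab.tabsD4 (orbD4.flatN 2 (i :: w)) (WeylTab.simpsD4.getD k 0) =
        evWord WeylTab.tabsD4 (orbD4.flatN 2 w') (WeylTab.simpsD4.getD k 0) := by decide +kernel
  induction l with
  | nil => exact ⟨[], by simp [words], rfl⟩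
  | cons i l ih =>
    obtain ⟨w, hw, e⟩ := ih
    obtain ⟨w', hw', hk⟩ := tab i w hw
    refine ⟨w', hw', ?_⟩
    have e' : (data D4.good K).wl ((tw φ).flat (i :: w)) = (data D4.good K).wl ((tw φ).flat w') := by
      refine RootBN.Twist.wl_flat_ext hT fun k => Fin.ext ?_
      rw [wl_val D4.good facts_chevD4, wl_val D4.good facts_chevD4, simp_val D4.good facts_chevD4,
        show ((tw φ).flat (i :: w)).map Fin.val = orbD4.flatN 2 (i :: w) from flat_val D4.good orbD4_ok φ _,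
        show ((tw φ).flat w').map Fin.val = orbD4.flatN 2 w' from flat_val D4.good orbD4_ok φ _]
      exact hk k.val k.2
    rw [← e', RootBN.Twist.flat_cons, RootBN.Twist.flat_cons, RootBN.Data.wl_append,
      RootBN.Data.wl_append, e]

/-- A torus element of order `q³ - 1` killing the central node. -/
structure Gen (q : ℕ) where
  two_le : 2 ≤ q
  pow : ∀ x, φ x = x ^ q
  two : q = 2 → CharP K 2
  τ : Fin chevD4.rank → Kˣ
  mem : τ ∈ fixedTorus orbD4_ok φ
  order : orderOf (torusChar chevD4 τ 18) = q ^ 3 - 1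
  c14 : torusChar chevD4 τ 14 = 1

variable {φ} {q : ℕ} (P : Gen φ q)

/-- The torus element. -/
noncomputable def Gen.t0 : GL chevD4.Idx K := torusHom K chevD4 P.τ

theorem Gen.char_eq {r : ℕ} (hr : r < chevD4.nroots) :
    torusChar chevD4 P.τ r = torusChar chevD4 P.τ 18 ^ ex q r := by
  have hp : ∀ x : Kˣ, Units.map (φ : K →* K) x = x ^ q := fun x => Units.ext (by
    rw [Units.coe_map, Units.val_pow_eq_pow_val]; exact P.pow _)
  obtain ⟨-, h13, h12⟩ := char_fixed φ P.mem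
  rw [torusChar_coef P.τ hr, P.c14, h12, h13, hp, hp, one_zpow, mul_one, ← pow_mul, ← zpow_natCast,
    ← zpow_natCast, ← zpow_mul, ← zpow_mul, ← zpow_add, ← zpow_add]
  congr 1
  rw [ex]
  push_cast
  ring

theorem Gen.zpow_eq_one {e : ℤ} (h : torusChar chevD4 P.τ 18 ^ e = 1) :
    ((q ^ 3 - 1 : ℕ) : ℤ) ∣ e := P.order ▸ orderOf_dvd_iff_zpow_eq_one.2 h

theorem big {q : ℕ} (hq : 3 ≤ q) : q ^ 2 + q + 2 < q ^ 3 - 1 := by
  have h1 : 3 * q ^ 2 ≤ q ^ 3 := by rw [pow_succ q 2, mul_comm (q ^ 2)]; exact Nat.mul_le_mul_right _ hq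
  have h2 : 3 * q ≤ q ^ 2 := by rw [sq]; exact Nat.mul_le_mul_right _ hq
  omega

/-- The part in `U`. -/
theorem Gen.U_form {u : GL chevD4.Idx K} (hu : u ∈ (tw φ).data.U) (hc : Commute P.t0 u) :
    ∃ a b c : K, φ a = a ∧ φ b = b ∧ φ c = c ∧ Act u !![1, 0, b; a, 1, c; 0, 0, 1] ∧
      (a = 0 → b = 0 → c = 0 → u = 1) := by
  have hT := tw_axioms φ
  have hS := orbD4_ok.2.2.1 0
  have hR : (tw φ).Longest ((0 : Fin 2) :: orbD4.covF 2 0) := by
    refine ⟨(reduced_iff D4.good orbD4_ok φ _).2 hS.2.2.2.2.2.2.2.2.2.1, fun r hr => not_le.2 ?_⟩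
    rw [wl_val D4.good facts_chevD4,
      show ((tw φ).flat _).map Fin.val = orbD4.flatN 2 _ from flat_val D4.good orbD4_ok φ _]
    exact hS.2.2.2.2.2.2.2.2.2.2 r.val r.2 hr
  rw [← RootBN.Twist.inf_Gt_U hT] at hu
  obtain ⟨hU, hG⟩ := hu
  obtain ⟨ys, hys, rfl⟩ := RootBN.Twist.exists_fixed_factor hT hR hU
    (RootBN.Twist.mem_Fix.1 (RootBN.Twist.Gt_le_Fix hG))
  have hH : P.t0 ∈ chevD4.diagonalSubgroup K := by
    rw [diagonal_eq_range D4.good]; exact ⟨_, rfl⟩
  have hx : List.Forall₂ (fun o y => y ∈ (tw φ).Xorb o) ((tw φ).roots ((0 : Fin 2) :: orbD4.covF 2 0)) ys :=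
    hys.imp fun _ _ h => h.1
  have hx' : List.Forall₂ (fun o y => y ∈ (tw φ).Xorb o) ((tw φ).roots ((0 : Fin 2) :: orbD4.covF 2 0))
      (ys.map fun y => P.t0 * y * P.t0⁻¹) := by
    refine List.forall₂_map_right_iff.2 (hx.imp fun o y h => ?_)
    exact (show (tw φ).Xorb o ≤ ((tw φ).Xorb o).comap (MulAut.conj P.t0).toMonoidHom from
      iSup₂_le fun r hr z hz => RootBN.Twist.X_le_Xorb hr (hT.base.H_conj r P.t0 hH z hz)) h
  have hfix : ys.map (fun y => P.t0 * y * P.t0⁻¹) = ys := by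
    refine RootBN.Twist.factor_unique hT hR.1 hx' hx ?_
    rw [RootBN.Twist.prod_conj, hc.eq, mul_inv_cancel_right]
  have hcom : ∀ y ∈ ys, Commute P.t0 y := fun y hy => by
    obtain ⟨i, hi, rfl⟩ := List.mem_iff_getElem.1 hy
    have := (List.getElem_of_eq hfix (by rwa [List.length_map])).symm
    rw [List.getElem_map] at this
    exact mul_inv_eq_iff_eq_mul.1 this.symm
  rw [show (tw φ).roots ((0 : Fin 2) :: orbD4.covF 2 0) = [6, 10, 9, 11, 8, 7] from
    (roots_eq D4.good orbD4_ok φ _).trans (by decide +kernel)] at hys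
  rcases hys with _ | ⟨h6, _ | ⟨h10, _ | ⟨h9, _ | ⟨h11, _ | ⟨h8, _ | ⟨h7, _ | _⟩⟩⟩⟩⟩⟩
  rename_i y6 y10 y9 y11 y8 y7
  have triv : ∀ o ∈ [(6 : Fin 12), 9, 8], ∀ y ∈ (tw φ).X' o, Commute P.t0 y → y = 1 := by
    intro o ho y hy hcy
    refine orbit_eq_one φ hy hcy fun r hr hor h => ?_
    rw [P.char_eq hr] at h
    have tab : ∀ r < 24, orbD4.orbF 12 r ∈ [(6 : Fin 12), 9, 8] →
        (∀ j ∈ [0, 2, 3], m r j = 0 ∨ m r j = 1) ∧ 1 ≤ m r 0 + m r 2 + m r 3 ∧
          m r 0 + m r 2 + m r 3 ≤ 2 := by decide +kernel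
    obtain ⟨hs, h1, h2'⟩ := tab r hr (hor ▸ ho)
    have hd := P.zpow_eq_one h
    have hq0 : (2 : ℤ) ≤ q := by exact_mod_cast P.two_le
    have hN : ((q ^ 3 - 1 : ℕ) : ℤ) = (q : ℤ) ^ 3 - 1 := by
      rw [Nat.cast_sub (Nat.one_le_pow _ _ (by have := P.two_le; omega))]; push_cast; ring
    have hsq : (4 : ℤ) ≤ (q : ℤ) ^ 2 := by nlinarith
    have hcu : 2 * (q : ℤ) ^ 2 ≤ (q : ℤ) ^ 3 := by nlinarith
    have hpos : 0 < ex q r ∧ ex q r < (q : ℤ) ^ 3 - 1 := by
      rw [ex]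
      rcases hs 0 (by simp) with e0 | e0 <;> rcases hs 2 (by simp) with e2 | e2 <;>
        rcases hs 3 (by simp) with e3 | e3 <;> rw [e0, e2, e3] at h1 h2' ⊢ <;> constructor <;> nlinarith
    exact hpos.1.ne' (Int.eq_zero_of_dvd_of_nonneg_of_lt hpos.1.le (hN ▸ hpos.2) hd)
  have e6 := triv 6 (by simp) y6 h6 (hcom _ (by simp))
  have e9 := triv 9 (by simp) y9 h9 (hcom _ (by simp))
  have e8 := triv 8 (by simp) y8 h8 (hcom _ (by simp))
  obtain ⟨a, ha, e7⟩ := mem_X'_seven φ h7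
  obtain ⟨b, hb, e10⟩ := mem_X'_high φ (o := 10) (r := 22) (by simp) h10
  obtain ⟨c, hc', e11⟩ := mem_X'_high φ (o := 11) (r := 23) (by simp) h11
  refine ⟨a, -b, -c, ha, by rw [map_neg, hb], by rw [map_neg, hc'], ?_, fun ha0 hb0 hc0 => ?_⟩
  · have h := ((act22 b).mul (act23 c)).mul (act14 a)
    simp only [List.prod_cons, List.prod_nil, e6, e9, e8, one_mul, mul_one]
    rw [e7, e10, e11, ← mul_assoc]
    convert h using 1
    ext i j
    fin_cases i <;> fin_cases j <;> simp [Matrix.mul_apply, Fin.sum_univ_three]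
  · rw [neg_eq_zero] at hb0 hc0
    simp only [List.prod_cons, List.prod_nil, e6, e9, e8, one_mul, mul_one]
    rw [e7, e10, e11, ha0, hb0, hc0, xe_zero D4.good (by decide), xe_zero D4.good (by decide),
      xe_zero D4.good (by decide)]
    simp

/-- The monomial part. -/
theorem Gen.N_form {l : List (Fin 2)} (hc : Commute P.t0 ((tw φ).data.nw l)) :
    ∃ (h n' : GL chevD4.Idx K) (A : Matrix (Fin 3) (Fin 3) K),
      h ∈ chevD4.diagonalSubgroup K ⊓ (tw φ).Gt ∧ (tw φ).data.nw l = h * n' ∧ Act n' A ∧ Fix3 φ A ∧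
        A.det = 1 ∧ (A 0 0 ≠ 0 → A 2 2 ≠ 0 → n' = 1) := by
  have hT := tw_axioms φ
  obtain ⟨w, hw, hwl⟩ := exists_word φ l
  have hh : (tw φ).data.nw l * ((tw φ).data.nw w)⁻¹ ∈ chevD4.diagonalSubgroup K ⊓ (tw φ).Gt := by
    rw [nw_flat, nw_flat]
    exact ⟨RootBN.Data.mul_inv_mem_H hT.base (RootBN.Data.nw_mem_N _) (RootBN.Data.nw_mem_N _)
      (RootBN.Data.acts_nw hT.base _) (hwl ▸ RootBN.Data.acts_nw hT.base _),
      Subgroup.mul_mem _ (RootBN.Twist.flat_mem_Gt hT _)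
        (Subgroup.inv_mem _ (RootBN.Twist.flat_mem_Gt hT _))⟩
  have hex : ∀ s < 24, ((q ^ 3 - 1 : ℕ) : ℤ) ∣
      ex q (evWord WeylTab.tabsD4 (orbD4.flatN 2 w) s) - ex q s := by
    intro s hs
    obtain ⟨e, he, hconj⟩ := conj_nw_xe (K := K) ((tw φ).flat l) (⟨s, hs⟩ : Fin chevD4.nroots)
    have hval : ((data D4.good K).wl ((tw φ).flat l) (⟨s, hs⟩ : Fin chevD4.nroots)).val =
        evWord WeylTab.tabsD4 (orbD4.flatN 2 w) s := by
      rw [hwl, wl_val D4.good facts_chevD4,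
        show ((tw φ).flat w).map Fin.val = orbD4.flatN 2 w from flat_val D4.good orbD4_ok φ w]
    set r := evWord WeylTab.tabsD4 (orbD4.flatN 2 w) s
    have hr : r < chevD4.nroots := hval ▸ Fin.is_lt _
    have h1 := hconj 1
    have h2 := hconj ((torusChar chevD4 P.τ s : Kˣ) : K)
    rw [hval, ← nw_flat] at h1 h2
    have h3 : xe D4.good r ((torusChar chevD4 P.τ r : Kˣ) * (e * 1)) =
        xe D4.good r (e * ((torusChar chevD4 P.τ s : Kˣ) : K)) := by
      rw [← torus_conj P.τ hr, ← h1, ← h2,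
        show ((torusChar chevD4 P.τ s : Kˣ) : K) = (torusChar chevD4 P.τ s : Kˣ) * (1 : K) from (mul_one _).symm,
        ← torus_conj P.τ hs]
      change P.t0 * ((tw φ).data.nw l * _ * ((tw φ).data.nw l)⁻¹) * P.t0⁻¹ =
        (tw φ).data.nw l * (P.t0 * _ * P.t0⁻¹) * ((tw φ).data.nw l)⁻¹
      calc _ = (P.t0 * (tw φ).data.nw l) * xe D4.good s (1 : K) * (P.t0 * (tw φ).data.nw l)⁻¹ := by group
        _ = _ := by rw [hc.eq]; group
    have h4 := xe_inj D4.good facts_chevD4 hr h3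
    rw [mul_one, mul_comm e] at h4
    have he0 : e ≠ 0 := fun h => by rw [h, mul_zero] at he; exact zero_ne_one he
    have h5 := Units.ext (mul_right_cancel₀ he0 h4)
    rw [P.char_eq hr, P.char_eq hs] at h5
    refine P.zpow_eq_one ?_
    rw [zpow_sub, h5, mul_inv_cancel]
  refine ⟨(tw φ).data.nw l * ((tw φ).data.nw w)⁻¹, (tw φ).data.nw w, ?_⟩
  by_cases hq : 3 ≤ q
  · have hw01 : w = [] ∨ w = [0] := by
      have tab : ∀ w ∈ words,
          (m (evWord WeylTab.tabsD4 (orbD4.flatN 2 w) 18) 0 = 1 ∧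
            m (evWord WeylTab.tabsD4 (orbD4.flatN 2 w) 18) 2 = 0 ∧
            m (evWord WeylTab.tabsD4 (orbD4.flatN 2 w) 18) 3 = 0) →
          (m (evWord WeylTab.tabsD4 (orbD4.flatN 2 w) 14) 0 = 0 ∧
            m (evWord WeylTab.tabsD4 (orbD4.flatN 2 w) 14) 2 = 0 ∧
            m (evWord WeylTab.tabsD4 (orbD4.flatN 2 w) 14) 3 = 0) → w = [] ∨ w = [0] := by decide +kernel
      have lt : ∀ w ∈ words, ∀ s ∈ [18, 14], evWord WeylTab.tabsD4 (orbD4.flatN 2 w) s < 24 := by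
        decide +kernel
      have big' := big hq
      have e18 : ex q 18 = 1 := by simp [ex, m, coefs]
      have e14 : ex q 14 = 0 := by simp [ex, m, coefs]
      have z : ∀ s ∈ [18, 14], ex q (evWord WeylTab.tabsD4 (orbD4.flatN 2 w) s) = ex q s := by
        intro s hs
        have hs' : s < 24 := by simp only [List.mem_cons, List.not_mem_nil, or_false] at hs; omega
        have hb := ex_abs (q := q) (lt w hw s hs)
        have hb' : (ex q s).natAbs ≤ 1 := by
          simp only [List.mem_cons, List.not_mem_nil, or_false] at hs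
          rcases hs with rfl | rfl
          · rw [e18]; rfl
          · rw [e14]; exact Nat.zero_le _
        have hd := Int.natAbs_dvd_natAbs.2 (hex s hs')
        rw [Int.natAbs_natCast] at hd
        have := Int.natAbs_sub_le (ex q (evWord WeylTab.tabsD4 (orbD4.flatN 2 w) s)) (ex q s)
        exact sub_eq_zero.1 (Int.natAbs_eq_zero.1 (Nat.eq_zero_of_dvd_of_lt hd (by omega)))
      refine tab w hw ((ex_eq_iff P.two_le (lt w hw 18 (by simp))).2 ?_)
        ((ex_eq_iff P.two_le (lt w hw 14 (by simp))).1 ?_)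
      · rw [z 18 (by simp), e18]
      · rw [z 14 (by simp), e14]
    rcases hw01 with rfl | rfl
    · refine ⟨1, hh, by simp, by simpa using Act.one, fun i j => ?_, Matrix.det_one, fun _ _ => rfl⟩
      rw [Matrix.one_apply]; split_ifs <;> simp
    · refine ⟨!![0, -1, 0; 1, 0, 0; 0, 0, 1], hh, (inv_mul_cancel_right _ _).symm, ?_, ?_, ?_, ?_⟩
      · rw [nw_flat, show (tw φ).flat [0] = [(⟨1, by decide⟩ : Fin chevD4.rank)] from rfl,
          RootBN.Data.nw_cons, RootBN.Data.nw_nil, mul_one]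
        exact act_n1
      · intro i j; fin_cases i <;> fin_cases j <;> simp
      · simp [Matrix.det_fin_three]
      · intro h; simp at h
  · obtain rfl : q = 2 := le_antisymm (by omega) P.two_le
    haveI := P.two rfl
    have tab : ∀ w ∈ words, (∀ s ∈ [18, 14, 13, 12],
        ((2 ^ 3 - 1 : ℕ) : ℤ) ∣ ex 2 (evWord WeylTab.tabsD4 (orbD4.flatN 2 w) s) - ex 2 s) →
        ∃ π : Equiv.Perm (Fin 3), (∀ j, evWord WeylTab.tabsD4 (orbD4.flatN 2 w) (tri j) = tri (π j)) ∧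
          (π 0 = 0 → π 2 = 2 → w = []) := by decide +kernel
    obtain ⟨π, hπ, hπ1⟩ := tab w hw fun s hs => hex s (by
      simp only [List.mem_cons, List.not_mem_nil, or_false] at hs; omega)
    refine ⟨fun i j => if i = π j then 1 else 0, hh, (inv_mul_cancel_right _ _).symm, ?_, ?_, ?_, ?_⟩
    · intro j
      obtain ⟨e, he, hb⟩ := nw_bvec (K := K) ((tw φ).flat w) (⟨tri j, tri_lt j⟩ : Fin chevD4.nroots)
      have he1 : e = 1 := by
        rcases mul_self_eq_one_iff.1 he with h | h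
        · exact h
        · rw [h, CharTwo.neg_eq]
      rw [nw_flat, hb, he1, one_smul, wl_val D4.good facts_chevD4,
        show ((tw φ).flat w).map Fin.val = orbD4.flatN 2 w from flat_val D4.good orbD4_ok φ w, hπ j]
      simp [Finset.sum_ite_eq']
    · intro i j; dsimp only; split_ifs <;> simp
    · rw [show (fun i j => if i = π j then (1 : K) else 0 : Matrix (Fin 3) (Fin 3) K) = π⁻¹.permMatrix K from ?_,
        Matrix.det_permutation]
      · rcases Int.units_eq_one_or (Equiv.Perm.sign π⁻¹) with h | h <;> simp [h, CharTwo.neg_eq]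
      · ext i j
        simp [Equiv.Perm.permMatrix, PEquiv.toMatrix_apply, Equiv.Perm.inv_def, Equiv.symm_apply_eq]
    · intro h0 h2
      rw [hπ1 (by simpa [eq_comm] using h0) (by simpa [eq_comm] using h2)]
      rfl

end Cfsg.Agent.TorusD4
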