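import Cfsg.Agent.Lib.TorusD4.Centralizer

/-!
# The action of the centraliser: image and injectivity
-/

set_option autoImplicit false

namespace Cfsg.Agent.TorusD4

open Cfsg.Lie Cfsg.Agent.Chev Cfsg.Agent.Chev.BNSetup

variable {K : Type*} [Field K] {φ : K ≃+* K} {q : ℕ} (P : Gen φ q)

/-- A torus element of the twisted group. -/
theorem torus_form (hcube : ∀ x, φ (φ (φ x)) = x) {h : GL chevD4.Idx K}
    (hh : h ∈ chevD4.diagonalSubgroup K ⊓ (tw φ).Gt) :
    ∃ τ ∈ fixedTorus orbD4_ok φ, h = torusHom K chevD4 τ := by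
  have := fixed_diagonal_le (F := K) D4.good orbD4_ok φ facts_chevD4 graphD4_cols (m := 3) (d := 2)
    (by norm_num) (by show ∀ i : Fin 4, _; intro i; fin_cases i <;> rfl) hcube invCartanD4 (by decide +kernel)
    hh.1 (RootBN.Twist.mem_Fix.1 (RootBN.Twist.Gt_le_Fix hh.2))
  obtain ⟨τ, hτ, e⟩ := this
  exact ⟨τ, hτ, e.symm⟩

/-- The three characters. -/
theorem char_tri {τ : Fin chevD4.rank → Kˣ} (hτ : τ ∈ fixedTorus orbD4_ok φ) :
    ((torusChar chevD4 τ 19 : Kˣ) : K) = (torusChar chevD4 τ 18 : Kˣ) * (torusChar chevD4 τ 14 : Kˣ) ∧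
    ((torusChar chevD4 τ 6 : Kˣ) : K) * (torusChar chevD4 τ 14 : Kˣ) *
      (φ (torusChar chevD4 τ 18 : Kˣ) * φ (φ (torusChar chevD4 τ 18 : Kˣ))) = 1 := by
  obtain ⟨-, h13, h12⟩ := char_fixed φ hτ
  constructor
  · rw [torusChar_coef τ (r := 19) (by decide)]
    simp [m, coefs]
  · rw [torusChar_coef τ (r := 6) (by decide)]
    rw [show φ ((torusChar chevD4 τ 18 : Kˣ) : K) = ((torusChar chevD4 τ 13 : Kˣ) : K) by rw [h13]; rfl,
      show φ ((torusChar chevD4 τ 13 : Kˣ) : K) = ((torusChar chevD4 τ 12 : Kˣ) : K) by rw [h12]; rfl]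
    simp [m, coefs]
    field_simp

theorem act_fixed_torus {τ : Fin chevD4.rank → Kˣ} (hτ : τ ∈ fixedTorus orbD4_ok φ) :
    ∃ A, Act (torusHom K chevD4 τ) A ∧ Img φ A ∧
      A = Matrix.diagonal fun j => ((torusChar chevD4 τ (tri j) : Kˣ) : K) := by
  refine ⟨_, act_torus τ, ?_, rfl⟩
  obtain ⟨hb, -, -⟩ := char_fixed φ hτ
  obtain ⟨h19, h6⟩ := char_tri hτ
  set u := ((torusChar chevD4 τ 18 : Kˣ) : K) with hu
  set b := ((torusChar chevD4 τ 14 : Kˣ) : K) with hbdef
  have hb' : φ b = b := congrArg Units.val hb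
  have hu0 : u ≠ 0 := Units.ne_zero _
  have hb0 : b ≠ 0 := Units.ne_zero _
  have hφ0 : φ u * φ (φ u) ≠ 0 := mul_ne_zero (by simpa using hu0) (by simpa using hu0)
  have hN : nrm φ u = u * φ u * φ (φ u) := rfl
  refine ⟨torusChar chevD4 τ 18, Matrix.diagonal ![1, b, ((torusChar chevD4 τ 6 : Kˣ) : K) / u], ?_, ?_, ?_⟩
  · have h6' : ((torusChar chevD4 τ 6 : Kˣ) : K) / u = (b * nrm φ u)⁻¹ := by
      refine eq_inv_of_mul_eq_one_left ?_
      rw [hN, div_eq_mul_inv]
      linear_combination (u * u⁻¹) * h6 + mul_inv_cancel₀ hu0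
    intro i j
    rcases eq_or_ne i j with rfl | hne
    · fin_cases i
      · simp
      · simpa using hb'
      · simp only [Matrix.diagonal_apply_eq]
        show φ (_ / u) = _ / u
        rw [h6', map_inv₀, map_mul, hb']
        congr 2
        have hc : φ (φ (φ u)) = u := by
          have e := char_fixed φ hτ
          have h' := (mem_fixedTorus orbD4_ok φ).1 hτ
          have h18 : Units.map (φ : K →* K) (Units.map (φ : K →* K) (Units.map (φ : K →* K)
              (torusChar chevD4 τ 18))) = torusChar chevD4 τ 18 := by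
            let c : Fin 4 → Kˣ := τ
            have v18 : ∀ k : Fin 4, chevD4.cartan k.val 18 = ![2, -1, 0, 0] k := by decide +kernel
            have e18 : torusChar chevD4 τ 18 = c 0 ^ (2 : ℤ) * c 1 ^ (-1 : ℤ) := by
              rw [show τ = (c : Fin chevD4.rank → Kˣ) from rfl, torusChar_four c 18]
              rw [show chevD4.cartan 0 18 = 2 from v18 0, show chevD4.cartan 1 18 = -1 from v18 1,
                show chevD4.cartan 2 18 = 0 from v18 2, show chevD4.cartan 3 18 = 0 from v18 3]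
              simp
            have e0 : Units.map (φ : K →* K) (c 0) = c 2 := (h' ⟨0, by decide⟩).symm
            have e1 : Units.map (φ : K →* K) (c 1) = c 1 := (h' ⟨1, by decide⟩).symm
            have e2 : Units.map (φ : K →* K) (c 2) = c 3 := (h' ⟨2, by decide⟩).symm
            have e3 : Units.map (φ : K →* K) (c 3) = c 0 := (h' ⟨3, by decide⟩).symm
            rw [e18]
            simp only [map_mul, map_zpow, e0, e1, e2, e3]
          exact congrArg Units.val h18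
        rw [hN, map_mul, map_mul, hc]
        ring
    · simp [Matrix.diagonal_apply_ne _ hne]
  · ext i j
    rcases eq_or_ne i j with rfl | hne
    · fin_cases i
      · simp [tri, hu]
      · simpa [tri] using h19
      · show _ = u * (_ / u)
        simp [tri]
        field_simp
    · simp [Matrix.diagonal_apply_ne _ hne]
  · rw [Matrix.det_diagonal, Fin.prod_univ_three, ← hu, hN]
    simp only [Matrix.cons_val, one_mul]
    field_simp
    linear_combination h6

/-- The decomposition of an element commuting with `t0`. -/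
theorem Gen.decomp {g : GL chevD4.Idx K} (hg : g ∈ (tw φ).Gt) (hc : Commute P.t0 g) :
    ∃ (u₁ h : GL chevD4.Idx K) (l : List (Fin 2)) (u₂ : GL chevD4.Idx K), u₁ ∈ (tw φ).data.U ∧
      Commute P.t0 u₁ ∧ h ∈ chevD4.diagonalSubgroup K ⊓ (tw φ).Gt ∧ Commute P.t0 ((tw φ).data.nw l) ∧
      u₂ ∈ (tw φ).data.U ∧ Commute P.t0 u₂ ∧ g = u₁ * h * (tw φ).data.nw l * u₂ := by
  have hT := tw_axioms φ
  have ax := RootBN.Twist.data_axioms hT
  obtain ⟨b, hb, l, u₂, hu₂, rfl⟩ := RootBN.Data.exists_normal_form ax hg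
  obtain ⟨u₁, hu₁, h, hh, rfl⟩ := (RootBN.Data.mem_B_iff ax).1 hb
  set n := (tw φ).data.nw l with hn
  set t := P.t0 with htdef
  have htD : t ∈ chevD4.diagonalSubgroup K := by
    rw [diagonal_eq_range D4.good]; exact ⟨_, rfl⟩
  have ht : t ∈ (tw φ).data.H := ⟨htD,
    map_fixedTorus_le D4.good orbD4_ok φ facts_chevD4 graphD4_cols negTri_chevD4
      (by show ∀ k < 4, _; decide +kernel) ⟨_, P.mem, rfl⟩⟩
  have hv₁ : t * u₁ * t⁻¹ ∈ (tw φ).data.U := RootBN.Data.H_conj_U ax ht hu₁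
  have hv₂ : t * u₂ * t⁻¹ ∈ (tw φ).data.Um ((tw φ).data.wl l) :=
    RootBN.Data.H_conj_of_iSup ax (S := {r | (tw φ).data.Pos r ∧ ¬ (tw φ).data.Pos ((tw φ).data.wl l r)})
      ht hu₂
  have hh' : t * (n * t⁻¹ * n⁻¹) ∈ (tw φ).data.H :=
    Subgroup.mul_mem _ ht (RootBN.Data.nw_H ax l (Subgroup.inv_mem _ ht))
  set h' := t * (n * t⁻¹ * n⁻¹) with hh'def
  have heq : t * (u₁ * h * n * u₂) * t⁻¹ = u₁ * h * n * u₂ := by
    rw [hc.eq, mul_inv_cancel_right]
  have hht : t * h = h * t := by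
    rw [diagonal_eq_range D4.good] at htD
    obtain ⟨a, ha⟩ := htD
    have h1 : h ∈ chevD4.diagonalSubgroup K := hh.1
    rw [diagonal_eq_range D4.good] at h1
    obtain ⟨b', rfl⟩ := h1
    rw [← ha, ← map_mul, ← map_mul, mul_comm]
  have e : (t * u₁ * t⁻¹ * (h * h')) * n * (t * u₂ * t⁻¹) = u₁ * h * n * u₂ := by
    refine Eq.trans ?_ heq
    calc _ = t * u₁ * t⁻¹ * (h * t) * n * u₂ * t⁻¹ := by rw [hh'def]; group
      _ = t * u₁ * t⁻¹ * (t * h) * n * u₂ * t⁻¹ := by rw [hht]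
      _ = _ := by group
  have hz : n * (u₂ * (t * u₂ * t⁻¹)⁻¹) * n⁻¹ ∈ (data D4.good K).B ⊓ RootBN.Twist.negU (data D4.good K) := by
    constructor
    · have e' : n * (u₂ * (t * u₂ * t⁻¹)⁻¹) * n⁻¹ = (u₁ * h)⁻¹ * (t * u₁ * t⁻¹ * (h * h')) := by
        rw [eq_inv_mul_iff_mul_eq]
        calc _ = (u₁ * h * n * u₂) * (t * u₂ * t⁻¹)⁻¹ * n⁻¹ := by group
          _ = _ := by rw [← e]; group
      rw [e']
      exact RootBN.Twist.B'_le_B hT (Subgroup.mul_mem _
        (Subgroup.inv_mem _ (Subgroup.mul_mem _ (RootBN.Data.U_le_B hu₁) (RootBN.Data.H_le_B hh)))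
        (Subgroup.mul_mem _ (RootBN.Data.U_le_B hv₁) (RootBN.Data.H_le_B (Subgroup.mul_mem _ hh hh'))))
    · refine (show (tw φ).data.Um ((tw φ).data.wl l) ≤
        (RootBN.Twist.negU (data D4.good K)).comap (MulAut.conj n).toMonoidHom from
          iSup₂_le fun o ho z hz => ?_) (Subgroup.mul_mem _ hu₂ (Subgroup.inv_mem _ hv₂))
      exact RootBN.Twist.Xorb_neg_le_negU hT ho.2 ((RootBN.Data.acts_nw ax l o z).2 hz).1
  rw [hT.B_inf_negU, Subgroup.mem_bot, conj_eq_one_iff, mul_inv_eq_one] at hz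
  rw [← hz] at e
  have e2 : t * u₁ * t⁻¹ * (h * h') = u₁ * h := mul_right_cancel (mul_right_cancel e)
  have e3 : u₁⁻¹ * (t * u₁ * t⁻¹) = h * (h * h')⁻¹ := by
    rw [inv_mul_eq_iff_eq_mul]
    calc _ = (t * u₁ * t⁻¹ * (h * h')) * (h * h')⁻¹ := by group
      _ = _ := by rw [e2, mul_assoc]
  have e4 : u₁⁻¹ * (t * u₁ * t⁻¹) ∈ (data D4.good K).U ⊓ (data D4.good K).H :=
    ⟨RootBN.Twist.U'_le_U hT (Subgroup.mul_mem _ (Subgroup.inv_mem _ hu₁) hv₁),
      e3 ▸ (Subgroup.mul_mem _ hh (Subgroup.inv_mem _ (Subgroup.mul_mem _ hh hh'))).1⟩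
  rw [RootBN.Twist.U_inf_H hT, Subgroup.mem_bot] at e4
  have h1 : h' = 1 := by
    rw [e4, eq_comm, mul_inv_eq_one] at e3
    exact mul_eq_left.1 e3.symm
  refine ⟨u₁, h, l, u₂, hu₁, ?_, hh, ?_, RootBN.Data.Um_le_U _ hu₂, ?_, rfl⟩
  · exact mul_inv_eq_iff_eq_mul.1 (inv_mul_eq_one.1 e4).symm
  · have h2 : t * n * t⁻¹ * n⁻¹ = 1 := by rw [← h1, hh'def]; group
    exact mul_inv_eq_iff_eq_mul.1 (mul_inv_eq_one.1 h2)
  · exact mul_inv_eq_iff_eq_mul.1 hz.symm

/-- The action of the centraliser. -/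
theorem Gen.act (hcube : ∀ x, φ (φ (φ x)) = x) {g : GL chevD4.Idx K} (hg : g ∈ (tw φ).Gt)
    (hc : Commute P.t0 g) : ∃ A, Act g A ∧ Img φ A ∧ (A = 1 → g = 1) := by
  obtain ⟨u₁, h, l, u₂, hu₁, hc₁, hh, hcn, hu₂, hc₂, rfl⟩ := P.decomp hg hc
  obtain ⟨h₂, n', N, hh₂, hn, hN, hNfix, hNdet, hN1⟩ := P.N_form hcn
  obtain ⟨a, b, c, ha, hb, hc', hU₁, hU₁1⟩ := P.U_form hu₁ hc₁
  obtain ⟨a', b', c', ha', hb', hc'', hU₂, hU₂1⟩ := P.U_form hu₂ hc₂
  obtain ⟨τ, hτ, e⟩ := torus_form hcube (Subgroup.mul_mem _ hh hh₂)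
  obtain ⟨Dm, hD, hDI, hDe⟩ := act_fixed_torus hτ
  have hg' : u₁ * h * (tw φ).data.nw l * u₂ = u₁ * torusHom K chevD4 τ * n' * u₂ := by
    rw [hn, ← e]; group
  rw [hg']
  refine ⟨_, ((hU₁.mul hD).mul hN).mul hU₂, ?_, fun hA => ?_⟩
  · refine Img.mul φ (Img.mul φ (Img.mul φ (img_of_det φ ?_ ?_) hDI) (img_of_det φ hNfix hNdet))
      (img_of_det φ ?_ ?_)
    · intro i j; fin_cases i <;> fin_cases j <;> simp [ha, hb, hc']
    · simp [Matrix.det_fin_three]
    · intro i j; fin_cases i <;> fin_cases j <;> simp [ha', hb', hc'']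
    · simp [Matrix.det_fin_three]
  · -- unitriangular times monomial
    set M₁ : Matrix (Fin 3) (Fin 3) K := !![1, 0, b; a, 1, c; 0, 0, 1] with hM₁
    set M₂ : Matrix (Fin 3) (Fin 3) K := !![1, 0, b'; a', 1, c'; 0, 0, 1] with hM₂
    set I₁ : Matrix (Fin 3) (Fin 3) K := !![1, 0, -b; -a, 1, a * b - c; 0, 0, 1] with hI₁
    set I₂ : Matrix (Fin 3) (Fin 3) K := !![1, 0, -b'; -a', 1, a' * b' - c'; 0, 0, 1] with hI₂
    have i1 : I₁ * M₁ = 1 := by
      ext i j; fin_cases i <;> fin_cases j <;> simp [hI₁, hM₁, Matrix.mul_apply, Fin.sum_univ_three] <;> ring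
    have i2 : M₂ * I₂ = 1 := by
      ext i j; fin_cases i <;> fin_cases j <;> simp [hI₂, hM₂, Matrix.mul_apply, Fin.sum_univ_three] <;> ring
    have hDN : Dm * N = I₁ * I₂ := by
      calc Dm * N = (I₁ * M₁) * (Dm * N) * (M₂ * I₂) := by rw [i1, i2, one_mul, mul_one]
        _ = I₁ * (M₁ * Dm * N * M₂) * I₂ := by simp only [mul_assoc]
        _ = _ := by rw [hA, mul_one]
    have hdn : ∀ i, (Dm * N) i i = 1 := by
      intro i; rw [hDN]
      fin_cases i <;> simp [hI₁, hI₂, Matrix.mul_apply, Fin.sum_univ_three]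
    have hd : ∀ i, Dm i i * N i i = 1 := by
      intro i; rw [← hdn i, hDe, Matrix.diagonal_mul, Matrix.diagonal_apply_eq]
    have hn1 : n' = 1 := hN1 (fun h0 => by simpa [h0] using hd 0) (fun h0 => by simpa [h0] using hd 2)
    have hN' : N = 1 := hN.unique (hn1 ▸ Act.one)
    subst hN'
    have hD1 : ∀ i, Dm i i = 1 := fun i => by simpa using hd i
    have hDm : Dm = 1 := by
      rw [hDe] at hD1 ⊢
      rw [← Matrix.diagonal_one]
      congr 1
      funext i
      simpa using hD1 i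
    -- the torus element is trivial
    have h18 : torusChar chevD4 τ 18 = 1 := Units.ext (by simpa [hDe, tri] using hD1 0)
    have h19 : ((torusChar chevD4 τ 19 : Kˣ) : K) = 1 := by simpa [hDe, tri] using hD1 1
    have h14 : torusChar chevD4 τ 14 = 1 := Units.ext (by
      have := (char_tri hτ).1
      rw [h19, h18, Units.val_one, one_mul] at this
      exact this.symm)
    have hτ1 : torusHom K chevD4 τ = 1 := by
      rw [← MonoidHom.mem_ker, mem_ker_torusHom D4.good]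
      obtain ⟨-, h13, h12⟩ := char_fixed φ hτ
      show ∀ j : Fin 4, _
      intro j
      fin_cases j
      · exact h18
      · exact h14
      · show torusChar chevD4 τ 13 = 1
        rw [h13, h18, map_one]
      · show torusChar chevD4 τ 12 = 1
        rw [h12, h13, h18, map_one, map_one]
    rw [hτ1, hn1]
    rw [hDm, mul_one, mul_one] at hA
    have hw : u₁ * u₂ = 1 := by
      obtain ⟨a'', b'', c'', -, -, -, hU₃, hU₃1⟩ := P.U_form (Subgroup.mul_mem _ hu₁ hu₂) (hc₁.mul_right hc₂)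
      have e3 := hU₃.unique (hU₁.mul hU₂)
      rw [hA] at e3
      refine hU₃1 ?_ ?_ ?_
      · simpa using congrFun (congrFun e3 1) 0
      · simpa using congrFun (congrFun e3 0) 2
      · simpa using congrFun (congrFun e3 1) 2
    rw [mul_one, mul_one, hw]

end Cfsg.Agent.TorusD4
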