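import Mathlib.Algebra.QuadraticAlgebra.Basic
import Cfsg.Agent.Lib.TorusD4.Image

/-!
# A cyclic self-centralising torus of order `(q³ - 1)(q + 1)` in `³D₄(q)`
-/

set_option autoImplicit false

namespace Cfsg.Agent.TorusD4

open Cfsg.Lie Cfsg.Agent.Chev Cfsg.Agent.Chev.BNSetup

variable {K : Type*} [Field K]

/-- A block matrix commuting with the fixed non-split element. -/
def blk (c α β γ : K) : Matrix (Fin 3) (Fin 3) K := !![α, β * c, 0; β, α + β, 0; 0, 0, γ]

theorem blk_mul (c α β γ α' β' γ' : K) : blk c α β γ * blk c α' β' γ' =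
    blk c (α * α' + c * β * β') (α * β' + β * α' + β * β') (γ * γ') := by
  ext i j
  fin_cases i <;> fin_cases j <;> simp [blk, Matrix.mul_apply, Fin.sum_univ_three] <;> ring_nf <;> simp

theorem det_blk (c α β γ : K) : (blk c α β γ).det = (α * α + α * β - c * β * β) * γ := by
  simp [blk, Matrix.det_fin_three]; ring

theorem eq_blk_of_commute {c l : K} (hl : l ≠ 0) (hroot : l * l - l - c ≠ 0) {A : Matrix (Fin 3) (Fin 3) K}
    (h : A * blk c 0 1 l = blk c 0 1 l * A) : A = blk c (A 0 0) (A 1 0) (A 2 2) := by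
  have e : ∀ i j, (A * blk c 0 1 l) i j = (blk c 0 1 l * A) i j := fun i j => by rw [h]
  have e00 := e 0 0
  have e10 := e 1 0
  have e02 := e 0 2
  have e12 := e 1 2
  have e20 := e 2 0
  have e21 := e 2 1
  simp [blk, Matrix.mul_apply, Fin.sum_univ_three] at e00 e10 e02 e12 e20 e21
  have h12 : A 1 2 = 0 := by
    have : A 1 2 * (l * l - l - c) = 0 := by linear_combination l * e12 + e02
    exact (mul_eq_zero.1 this).resolve_right hroot
  have h02 : A 0 2 = 0 := by
    have : A 0 2 * l = 0 := by linear_combination e02 + c * h12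
    exact (mul_eq_zero.1 this).resolve_right hl
  have h20 : A 2 0 = 0 := by
    have : A 2 0 * (l * l - l - c) = 0 := by linear_combination (1 - l) * e20 - e21
    exact (mul_eq_zero.1 this).resolve_right hroot
  have h21 : A 2 1 = 0 := by linear_combination e20 + l * h20
  ext i j
  fin_cases i <;> fin_cases j <;> simp [blk, h12, h02, h20, h21]
  · linear_combination e00
  · linear_combination e10

variable {φ : K ≃+* K}

/-- The last entry is determined by the first block. -/
theorem img_blk_one {c γ : K} (h : Img φ (blk c 1 0 γ)) : γ = 1 := by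
  obtain ⟨u, A', hA', e, hd⟩ := h
  have hu : (u : K) ≠ 0 := u.ne_zero
  have h00 : (1 : K) = (u : K) * A' 0 0 := by simpa [blk] using congrFun (congrFun e 0) 0
  have hfix : φ (u : K) = u := by
    have h1 : A' 0 0 = (u : K)⁻¹ := eq_inv_of_mul_eq_one_right h00.symm
    have h2 := hA' 0 0
    rw [h1, map_inv₀] at h2
    exact inv_injective h2
  have hdet := congrArg Matrix.det e
  rw [det_blk, Matrix.det_smul, Fintype.card_fin] at hdet
  have hN : nrm φ (u : K) = (u : K) ^ 3 := by
    show (u : K) * φ u * φ (φ u) = _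
    rw [hfix, hfix]; ring
  rw [hN] at hd
  linear_combination hdet + hd

theorem exists_fixed_param [Fintype K] {q : ℕ} (hK : Fintype.card K = q ^ 3) (hcube : ∀ x, φ (φ (φ x)) = x)
    (u b : Kˣ) (hb : φ (b : K) = b) :
    ∃ τ ∈ fixedTorus orbD4_ok φ, torusChar chevD4 τ 18 = u ∧ torusChar chevD4 τ 14 = b := by
  classical
  have _ := hK
  let Ψ : fixedTorus orbD4_ok φ → {x : Kˣ // Units.map (φ : K →* K) x = x} × Kˣ := fun τ =>
    (⟨torusChar chevD4 τ.1 14, (char_fixed φ τ.2).1⟩, torusChar chevD4 τ.1 18)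
  have hinj : Function.Injective Ψ := by
    intro a b' e
    have e14 : torusChar chevD4 a.1 14 = torusChar chevD4 b'.1 14 := congrArg (fun p => p.1.1) e
    have e18 : torusChar chevD4 a.1 18 = torusChar chevD4 b'.1 18 := congrArg Prod.snd e
    have hmem : a.1 * b'.1⁻¹ ∈ fixedTorus orbD4_ok φ := Subgroup.mul_mem _ a.2 (Subgroup.inv_mem _ b'.2)
    have hdiv : ∀ r, torusChar chevD4 a.1 r = torusChar chevD4 b'.1 r →
        torusChar chevD4 (a.1 * b'.1⁻¹) r = 1 := by
      intro r hr
      rw [torusChar_mul, hr, ← torusChar_mul, mul_inv_cancel, torusChar_one]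
    obtain ⟨-, h13, h12⟩ := char_fixed φ hmem
    have hker : a.1 * b'.1⁻¹ ∈ (torusHom K chevD4).ker := by
      rw [mem_ker_torusHom D4.good]
      show ∀ j : Fin 4, _
      intro j
      fin_cases j
      · exact hdiv 18 e18
      · exact hdiv 14 e14
      · show torusChar chevD4 _ 13 = 1
        rw [h13, hdiv 18 e18, map_one]
      · show torusChar chevD4 _ 12 = 1
        rw [h12, h13, hdiv 18 e18, map_one, map_one]
    have h1 : a.1 * b'.1⁻¹ ∈ (torusHom K chevD4).ker ⊓ fixedTorus orbD4_ok φ := ⟨hker, hmem⟩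
    rw [ker_inf_fixedTorusD4, Subgroup.mem_bot, mul_inv_eq_one] at h1
    exact Subtype.ext h1
  have hsurj : Function.Surjective Ψ := by
    have h2 := (Finite.injective_iff_surjective (f := Ψ ∘ (fixedTorusD4Equiv φ hcube).symm)).1
      (hinj.comp (Equiv.injective _))
    exact h2.of_comp
  obtain ⟨τ, hτ⟩ := hsurj (⟨b, Units.ext hb⟩, u)
  exact ⟨τ.1, τ.2, congrArg Prod.snd hτ, congrArg (fun p => p.1.1) hτ⟩

theorem fixed_nonroot [Finite K] : ∃ c : K, φ c = c ∧ c ≠ 0 ∧ ∀ x, φ x = x → x * x - x - c ≠ 0 := by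
  classical
  let S := {x : K // φ x = x}
  let f : S → S := fun x => ⟨x.1 * x.1 - x.1, by rw [map_sub, map_mul, x.2]⟩
  have hf : ¬ Function.Surjective f := by
    intro h
    have := Finite.injective_iff_surjective.2 h (a₁ := (⟨0, map_zero φ⟩ : S)) (a₂ := ⟨1, map_one φ⟩)
      (Subtype.ext (by simp [f]))
    exact zero_ne_one (congrArg Subtype.val this)
  simp only [Function.Surjective, not_forall, not_exists] at hf
  obtain ⟨c, hc⟩ := hf
  refine ⟨c.1, c.2, fun h0 => hc ⟨0, map_zero φ⟩ (Subtype.ext (by simp [f, h0])), fun x hx h => ?_⟩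
  exact hc ⟨x, hx⟩ (Subtype.ext (by simp only [f]; exact sub_eq_zero.1 h))

theorem no_root (hcube : ∀ x, φ (φ (φ x)) = x) {c : K} (hc : φ c = c)
    (h : ∀ x, φ x = x → x * x - x - c ≠ 0) (r : K) : r ^ 2 ≠ c + 1 * r := by
  intro e
  have e1 : φ r ^ 2 = c + 1 * φ r := by
    have := congrArg φ e
    simpa [hc] using this
  have key : φ r = r ∨ φ r = 1 - r := by
    have : (φ r - r) * (φ r + r - 1) = 0 := by linear_combination e1 - e
    rcases mul_eq_zero.1 this with h' | h'
    · exact Or.inl (sub_eq_zero.1 h')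
    · exact Or.inr (by linear_combination h')
  have hfix : φ r = r := by
    rcases key with h' | h'
    · exact h'
    · have h2 : φ (φ r) = r := by rw [h', map_sub, map_one, h']; ring
      exact (congrArg φ h2).symm.trans (hcube r)
  exact h r hfix (by linear_combination e)

/-- The self-centralising torus. -/
theorem exists_torus [Fintype K] {q : ℕ} (hq : 2 ≤ q) (hp : q = 2 → CharP K 2) (hK : Fintype.card K = q ^ 3)
    (hφ : ∀ x, φ x = x ^ q) (hcube : ∀ x, φ (φ (φ x)) = x) (hS : Nat.card {x : K // φ x = x} = q) :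
    ∃ H : Subgroup ↥(tw φ).Gt, IsCyclic ↥H ∧ Nat.card ↥H = (q ^ 3 - 1) * (q + 1) ∧
      Subgroup.centralizer (H : Set ↥(tw φ).Gt) = H := by
  classical
  obtain ⟨u0, hu0⟩ := IsCyclic.exists_generator (α := Kˣ)
  have hord : orderOf u0 = q ^ 3 - 1 := by
    rw [orderOf_eq_card_of_forall_mem_zpowers hu0, Nat.card_units, Nat.card_eq_fintype_card, hK]
  obtain ⟨τ₀, hτ₀, h18, h14⟩ := exists_fixed_param hK hcube u0 1 (map_one φ)
  let P : Gen φ q := ⟨hq, hφ, hp, τ₀, hτ₀, h18.symm ▸ hord, h14⟩
  obtain ⟨c, hc, hc0, hcn⟩ := fixed_nonroot (φ := φ)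
  haveI hfact : Fact (∀ r : K, r ^ 2 ≠ c + 1 * r) := ⟨no_root hcube hc hcn⟩
  have hGt : (torusHom K chevD4) P.τ ∈ (tw φ).Gt :=
    map_fixedTorus_le D4.good orbD4_ok φ facts_chevD4 graphD4_cols negTri_chevD4
      (by show ∀ k < 4, _; decide +kernel) ⟨_, P.mem, rfl⟩
  have torus_mem : ∀ τ ∈ fixedTorus orbD4_ok φ,
      torusHom K chevD4 τ ∈ (tw φ).Gt ∧ Commute P.t0 (torusHom K chevD4 τ) := fun τ hτ =>
    ⟨map_fixedTorus_le D4.good orbD4_ok φ facts_chevD4 graphD4_cols negTri_chevD4
      (by show ∀ k < 4, _; decide +kernel) ⟨_, hτ, rfl⟩, (Commute.all P.τ τ).map (torusHom K chevD4)⟩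
  have x_mem : ∀ t : K, φ t = t →
      (xe D4.good 14 t ∈ (tw φ).Gt ∧ Commute P.t0 (xe D4.good 14 t)) ∧
        (xe D4.good 9 t ∈ (tw φ).Gt ∧ Commute P.t0 (xe D4.good 9 t)) := by
    intro t ht
    have h := pv_mem_Gt D4.good orbD4_ok φ facts_chevD4 negTri_chevD4 graphD4_cols 0 (a := fun _ => t)
      fun _ _ => ht.symm
    rw [show orbD4.Jl 2 0 = [1] from rfl, pv, pv, List.map_singleton, List.map_singleton,
      List.prod_singleton, List.prod_singleton] at h
    have com : ∀ r < chevD4.nroots, ex q r = 0 → Commute P.t0 (xe D4.good r t) := by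
      intro r hr he
      refine mul_inv_eq_iff_eq_mul.1 ?_
      rw [Gen.t0, torus_conj P.τ hr, P.char_eq hr, he, zpow_zero, Units.val_one, one_mul]
    exact ⟨⟨h.1, com 14 (by decide) (by simp [ex, m, coefs])⟩,
      ⟨h.2, com 9 (by decide) (by simp [ex, m, coefs])⟩⟩
  -- elements with prescribed block
  have mk : ∀ (u : Kˣ) (α β : K), φ α = α → φ β = β → α * α + α * β - c * β * β ≠ 0 →
      ∃ g ∈ (tw φ).Gt, Commute P.t0 g ∧ ∃ γ, Act g (blk c ((u : K) * α) ((u : K) * β) γ) := by
    have diag : ∀ (v : Kˣ) (b : K) (hb : b ≠ 0), φ b = b → ∃ g ∈ (tw φ).Gt, Commute P.t0 g ∧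
        ∃ γ, Act g !![(v : K), 0, 0; 0, (v : K) * b, 0; 0, 0, γ] := by
      intro v b hb hbf
      obtain ⟨τ, hτ, e18, e14⟩ := exists_fixed_param hK hcube v (Units.mk0 b hb) hbf
      refine ⟨_, (torus_mem τ hτ).1, (torus_mem τ hτ).2, (torusChar chevD4 τ 6 : Kˣ), ?_⟩
      convert act_torus τ using 1
      ext i j
      fin_cases i <;> fin_cases j <;> simp [tri]
      · rw [e18]
      · rw [(char_tri hτ).1, e18, e14]; rfl
    intro u α β hα hβ hne
    by_cases hα0 : α = 0
    · subst hα0
      have hβ0 : β ≠ 0 := fun h => hne (by rw [h]; ring)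
      -- the reflection times a torus times a root element
      obtain ⟨g, hg, hgc, γ, hA⟩ := diag (u * Units.mk0 β hβ0) (-c) (neg_ne_zero.2 hc0) (by rw [map_neg, hc])
      have h1 := (x_mem 1 (map_one φ))
      have hm1 := (x_mem (-1) (by rw [map_neg, map_one])).2
      have hn : ne' D4.good 14 (1 : K) = xe D4.good 14 (1 : K) * xe D4.good 9 (-1) * xe D4.good 14 1 := by
        rw [ne', inv_one]; rfl
      refine ⟨ne' D4.good 14 (1 : K) * g * xe D4.good 9 1, ?_, ?_, γ, ?_⟩
      · rw [hn]
        exact Subgroup.mul_mem _ (Subgroup.mul_mem _ (Subgroup.mul_mem _ (Subgroup.mul_mem _ h1.1.1 hm1.1) h1.1.1)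
          hg) h1.2.1
      · rw [hn]
        exact ((((h1.1.2.mul_right hm1.2).mul_right h1.1.2).mul_right hgc).mul_right h1.2.2)
      · convert (act_n1.mul hA).mul (act9 (1 : K)) using 1
        ext i j
        fin_cases i <;> fin_cases j <;> simp [blk, Matrix.mul_apply, Fin.sum_univ_three]
    · set b := (α * α + α * β - c * β * β) / (α * α) with hbdef
      have hb : b ≠ 0 := div_ne_zero hne (mul_ne_zero hα0 hα0)
      have hbf : φ b = b := by simp [hbdef, hα, hβ, hc]
      obtain ⟨g, hg, hgc, γ, hA⟩ := diag (u * Units.mk0 α hα0) b hb hbf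
      have h1 := (x_mem (β / α) (by rw [map_div₀, hα, hβ])).1
      have h2 := (x_mem (β * c / α) (by rw [map_div₀, map_mul, hα, hβ, hc])).2
      refine ⟨_, Subgroup.mul_mem _ (Subgroup.mul_mem _ h1.1 hg) h2.1,
        (h1.2.mul_right hgc).mul_right h2.2, γ, ?_⟩
      convert ((act14 (β / α)).mul hA).mul (act9 (β * c / α)) using 1
      ext i j
      fin_cases i <;> fin_cases j <;>
        simp [blk, Matrix.mul_apply, Fin.sum_univ_three, hbdef] <;> field_simp <;> ring
  have hdelta : ∀ α β : K, φ α = α → φ β = β → ¬ (α = 0 ∧ β = 0) → α * α + α * β - c * β * β ≠ 0 := by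
    intro α β hα hβ hne h
    by_cases hβ0 : β = 0
    · refine hne ⟨?_, hβ0⟩
      rw [hβ0] at h
      exact mul_self_eq_zero.1 (by linear_combination h)
    · refine hcn (-(α / β)) (by rw [map_neg, map_div₀, hα, hβ]) ?_
      field_simp
      linear_combination h
  -- the non-split element
  obtain ⟨y, hy, hyc, l, hY⟩ := mk 1 0 1 (map_zero φ) (map_one φ) (hdelta 0 1 (map_zero φ) (map_one φ) (by simp))
  rw [Units.val_one, mul_one, one_mul] at hY
  have hlf : φ l = l ∧ l ≠ 0 := by
    obtain ⟨A, hA, hI, -⟩ := P.act hcube hy hyc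
    rw [hA.unique hY] at hI
    obtain ⟨u, A', hA', e, hd⟩ := hI
    have hu : (u : K) ≠ 0 := u.ne_zero
    have h10 : (1 : K) = (u : K) * A' 1 0 := by simpa [blk] using congrFun (congrFun e 1) 0
    have h22 : l = (u : K) * A' 2 2 := by simpa [blk] using congrFun (congrFun e 2) 2
    have h1 : A' 1 0 = (u : K)⁻¹ := eq_inv_of_mul_eq_one_right h10.symm
    have hfu : φ (u : K) = u := by
      have h2 := hA' 1 0
      rw [h1, map_inv₀] at h2
      exact inv_injective h2
    refine ⟨by rw [h22, map_mul, hfu, hA'], fun h0 => ?_⟩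
    have hdet := congrArg Matrix.det e
    rw [det_blk, h0, mul_zero, Matrix.det_smul, eq_comm, mul_eq_zero] at hdet
    rcases hdet with h | h
    · exact pow_ne_zero _ hu h
    · rw [h, zero_mul] at hd; exact zero_ne_one hd
  let G := ↥(tw φ).Gt
  let t' : G := ⟨P.t0, hGt⟩
  let y' : G := ⟨y, hy⟩
  let H : Subgroup G := Subgroup.centralizer {t', y'}
  have hmem : ∀ g : G, g ∈ H ↔ Commute P.t0 (g : GL chevD4.Idx K) ∧ Commute y (g : GL chevD4.Idx K) := by
    intro g
    simp only [H, Subgroup.mem_centralizer_iff, Set.mem_insert_iff, Set.mem_singleton_iff, forall_eq_or_imp,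
      forall_eq, t', y']
    exact Iff.and Subtype.ext_iff Subtype.ext_iff
  have act : ∀ g : H, ∃ α β γ : K, Act ((g : G) : GL chevD4.Idx K) (blk c α β γ) ∧ Img φ (blk c α β γ) ∧
      (blk c α β γ = 1 → g = 1) := by
    intro g
    obtain ⟨hg1, hg2⟩ := (hmem g.1).1 g.2
    obtain ⟨A, hA, hI, h1⟩ := P.act hcube g.1.2 hg1
    have hcomm : A * blk c 0 1 l = blk c 0 1 l * A :=
      (hA.mul hY).unique (hg2.eq ▸ hY.mul hA)
    have e := eq_blk_of_commute hlf.2 (hcn l hlf.1) hcomm
    refine ⟨A 0 0, A 1 0, A 2 2, e ▸ hA, e ▸ hI, fun h => ?_⟩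
    exact Subtype.ext (Subtype.ext (h1 (e.trans h)))
  let ψ : H →* QuadraticAlgebra K c 1 :=
    { toFun := fun g => ⟨sub3 ((g : G) : GL chevD4.Idx K) 0 0, sub3 ((g : G) : GL chevD4.Idx K) 1 0⟩
      map_one' := by
        rw [show sub3 (((1 : H) : G) : GL chevD4.Idx K) = 1 from (Act.one (K := K)).eq_sub3.symm]
        ext
        · rw [QuadraticAlgebra.re_one]; simp
        · rw [QuadraticAlgebra.im_one]; simp
      map_mul' := fun a b => by
        obtain ⟨α, β, γ, ha, -, -⟩ := act a
        obtain ⟨α', β', γ', hb, -, -⟩ := act b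
        rw [← ha.eq_sub3, ← hb.eq_sub3,
          show sub3 (((a * b : H) : G) : GL chevD4.Idx K) = _ from (ha.mul hb).eq_sub3.symm, blk_mul]
        ext <;> simp [blk] }
  have hψ : ∀ g : H, ∀ α β γ, Act ((g : G) : GL chevD4.Idx K) (blk c α β γ) → ψ g = ⟨α, β⟩ := by
    intro g α β γ h
    show QuadraticAlgebra.mk _ _ = _
    rw [← h.eq_sub3]
    simp [blk]
  have hinj : Function.Injective ψ := by
    rw [injective_iff_map_eq_one]
    intro g hg
    obtain ⟨α, β, γ, h, hI, h1⟩ := act g
    have e := (hψ g α β γ h).symm.trans hg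
    have ea : α = 1 := (congrArg QuadraticAlgebra.re e).trans QuadraticAlgebra.re_one
    have eb : β = 0 := (congrArg QuadraticAlgebra.im e).trans QuadraticAlgebra.im_one
    subst ea eb
    refine h1 ?_
    rw [img_blk_one hI]
    ext i j
    fin_cases i <;> fin_cases j <;> simp [blk]
  haveI hcyc : IsCyclic H := isCyclic_of_subgroup_isDomain ψ hinj
  refine ⟨H, hcyc, ?_, ?_⟩
  · -- the count
    let S := {x : K // φ x = x}
    let E : Kˣ × Option S → QuadraticAlgebra K c 1 := fun p =>
      p.2.elim ⟨(p.1 : K), 0⟩ fun s => ⟨(p.1 : K) * s.1, (p.1 : K)⟩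
    have hE : Function.Injective E := by
      rintro ⟨u, _ | s⟩ ⟨u', _ | s'⟩ e <;> simp only [E, Option.elim, QuadraticAlgebra.ext_iff] at e
      · rw [Units.ext e.1]
      · exact absurd e.2.symm u'.ne_zero
      · exact absurd e.2 u.ne_zero
      · have hu := Units.ext e.2
        subst hu
        rw [Subtype.ext (mul_left_cancel₀ u.ne_zero e.1)]
    have hrange : Set.range ψ = Set.range E := by
      apply Set.Subset.antisymm
      · rintro _ ⟨g, rfl⟩
        obtain ⟨α, β, γ, h, hI, -⟩ := act g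
        obtain ⟨u, A', hA', e, hd⟩ := hI
        have h00 : α = (u : K) * A' 0 0 := by simpa [blk] using congrFun (congrFun e 0) 0
        have h10 : β = (u : K) * A' 1 0 := by simpa [blk] using congrFun (congrFun e 1) 0
        rw [hψ g α β γ h]
        by_cases hb : A' 1 0 = 0
        · have ha : A' 0 0 ≠ 0 := by
            intro ha
            have hdet := congrArg Matrix.det e
            rw [det_blk, Matrix.det_smul, Fintype.card_fin, h00, h10, ha, hb] at hdet
            have h2 : A'.det = 0 := by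
              have : (u : K) ^ 3 * A'.det = 0 := by linear_combination -hdet
              exact (mul_eq_zero.1 this).resolve_left (pow_ne_zero _ u.ne_zero)
            rw [h2, zero_mul] at hd
            exact zero_ne_one hd
          exact ⟨(u * Units.mk0 _ ha, none), by simp [E, h00, h10, hb]⟩
        · refine ⟨(u * Units.mk0 _ hb, some ⟨A' 0 0 / A' 1 0, by rw [map_div₀, hA', hA']⟩), ?_⟩
          simp only [E, Option.elim, Units.val_mul, Units.val_mk0, h00, h10]
          congr 1
          field_simp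
      · rintro _ ⟨⟨u, o⟩, rfl⟩
        obtain ⟨α, β, hα, hβ, hne, e⟩ : ∃ α β : K, φ α = α ∧ φ β = β ∧ ¬ (α = 0 ∧ β = 0) ∧
            E (u, o) = ⟨(u : K) * α, (u : K) * β⟩ := by
          cases o with
          | none => exact ⟨1, 0, map_one φ, map_zero φ, by simp, by simp [E]⟩
          | some s => exact ⟨s.1, 1, s.2, map_one φ, by simp, by simp [E]⟩
        obtain ⟨g, hg, hgc, γ, hA⟩ := mk u α β hα hβ (hdelta α β hα hβ hne)
        have hgy : Commute y g := by
          obtain ⟨A, hA', -, h1⟩ := P.act hcube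
            (Subgroup.mul_mem _ (Subgroup.mul_mem _ (Subgroup.mul_mem _ hy hg) (Subgroup.inv_mem _ hy))
              (Subgroup.inv_mem _ hg))
            ((((hyc.mul_right hgc).mul_right hyc.inv_right).mul_right hgc.inv_right))
          refine mul_inv_eq_one.1 ?_ |> fun e => mul_inv_eq_iff_eq_mul.1 e
          refine h1 ?_
          have hz : Act (y * g * y⁻¹ * g⁻¹ * (g * y)) (A * (blk c ((u : K) * α) ((u : K) * β) γ *
              blk c 0 1 l)) := hA'.mul (hA.mul hY)
          rw [show y * g * y⁻¹ * g⁻¹ * (g * y) = y * g by group] at hz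
          have e2 := hz.unique (hY.mul hA)
          have hsw : blk c 0 1 l * blk c ((u : K) * α) ((u : K) * β) γ =
              blk c ((u : K) * α) ((u : K) * β) γ * blk c 0 1 l := by
            rw [blk_mul, blk_mul]; congr 1 <;> ring
          rw [hsw] at e2
          obtain ⟨A₂, hA₂, ⟨v, B, -, eB, hB⟩, -⟩ := P.act hcube (Subgroup.mul_mem _ hg hy)
            (hgc.mul_right hyc)
          have hunit : IsUnit (blk c ((u : K) * α) ((u : K) * β) γ * blk c 0 1 l) := by
            rw [Matrix.isUnit_iff_isUnit_det, ← hA₂.unique (hA.mul hY), eB, Matrix.det_smul,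
              Fintype.card_fin]
            exact isUnit_iff_ne_zero.2 (mul_ne_zero (pow_ne_zero _ v.ne_zero)
              (fun h => by rw [h, zero_mul] at hB; exact zero_ne_one hB))
          exact hunit.mul_eq_right.1 e2
        refine ⟨⟨⟨g, hg⟩, (hmem _).2 ⟨hgc, hgy⟩⟩, ?_⟩
        rw [e]
        exact hψ _ _ _ γ hA
    calc Nat.card H = Nat.card (Set.range ψ) :=
          (Nat.card_range_of_injective hinj).symm
      _ = Nat.card (Set.range E) := by rw [hrange]
      _ = Nat.card (Kˣ × Option S) := Nat.card_range_of_injective hE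
      _ = (q ^ 3 - 1) * (q + 1) := by
        rw [Nat.card_prod, Nat.card_units, Finite.card_option, hS, Nat.card_eq_fintype_card, hK]
  · refine le_antisymm (fun g hg => ?_) (fun g hg => ?_)
    · have ht : t' ∈ H := (hmem t').2 ⟨Commute.refl _, hyc.symm⟩
      have hy' : y' ∈ H := (hmem y').2 ⟨hyc, Commute.refl _⟩
      exact (hmem g).2 ⟨congrArg Subtype.val (Subgroup.mem_centralizer_iff.1 hg t' ht),
        congrArg Subtype.val (Subgroup.mem_centralizer_iff.1 hg y' hy')⟩
    · refine Subgroup.mem_centralizer_iff.2 fun h hh => ?_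
      letI := hcyc.commGroup
      exact congrArg Subtype.val (mul_comm (⟨h, hh⟩ : H) ⟨g, hg⟩)

end Cfsg.Agent.TorusD4
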