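import Cfsg.Agent.Lib.TorusD4.Torus

/-!
# The fixed torus of `³D₄` and the root groups fixed by a torus element
-/

set_option autoImplicit false

namespace Cfsg.Agent.TorusD4

open Cfsg.Lie Cfsg.Agent.Chev Cfsg.Agent.Chev.BNSetup

variable {K : Type*} [Field K] (φ : K ≃+* K)

/-- The twist. -/
noncomputable abbrev tw := tw3D4 φ

theorem tw_axioms : (tw φ).Axioms := tw3D4_axioms φ

theorem torusChar_four (c : Fin 4 → Kˣ) (r : ℕ) :
    torusChar chevD4 (c : Fin chevD4.rank → Kˣ) r = c 0 ^ chevD4.cartan 0 r * c 1 ^ chevD4.cartan 1 r *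
      c 2 ^ chevD4.cartan 2 r * c 3 ^ chevD4.cartan 3 r := by
  show ∏ i : Fin 4, c i ^ chevD4.cartan i.val r = _
  rw [Fin.prod_univ_four]
  rfl

theorem char_fixed {τ : Fin chevD4.rank → Kˣ} (hτ : τ ∈ fixedTorus orbD4_ok φ) :
    Units.map (φ : K →* K) (torusChar chevD4 τ 14) = torusChar chevD4 τ 14 ∧
      torusChar chevD4 τ 13 = Units.map (φ : K →* K) (torusChar chevD4 τ 18) ∧
      torusChar chevD4 τ 12 = Units.map (φ : K →* K) (torusChar chevD4 τ 13) := by
  let c : Fin 4 → Kˣ := τ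
  have h := (mem_fixedTorus orbD4_ok φ).1 hτ
  have e0 : Units.map (φ : K →* K) (c 0) = c 2 := (h ⟨0, by decide⟩).symm
  have e1 : Units.map (φ : K →* K) (c 1) = c 1 := (h ⟨1, by decide⟩).symm
  have e2 : Units.map (φ : K →* K) (c 2) = c 3 := (h ⟨2, by decide⟩).symm
  have e3 : Units.map (φ : K →* K) (c 3) = c 0 := (h ⟨3, by decide⟩).symm
  have v14 : ∀ k : Fin 4, chevD4.cartan k.val 14 = ![-1, 2, -1, -1] k := by decide +kernel
  have v18 : ∀ k : Fin 4, chevD4.cartan k.val 18 = ![2, -1, 0, 0] k := by decide +kernel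
  have v13 : ∀ k : Fin 4, chevD4.cartan k.val 13 = ![0, -1, 2, 0] k := by decide +kernel
  have v12 : ∀ k : Fin 4, chevD4.cartan k.val 12 = ![0, -1, 0, 2] k := by decide +kernel
  have p : ∀ (r : ℕ) (v : Fin 4 → ℤ), (∀ k : Fin 4, chevD4.cartan k.val r = v k) →
      torusChar chevD4 τ r = c 0 ^ v 0 * c 1 ^ v 1 * c 2 ^ v 2 * c 3 ^ v 3 := by
    intro r v hv
    rw [show τ = (c : Fin chevD4.rank → Kˣ) from rfl, torusChar_four c r, ← hv 0, ← hv 1, ← hv 2, ← hv 3]
    rfl
  rw [p 14 _ v14, p 18 _ v18, p 13 _ v13, p 12 _ v12]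
  refine ⟨?_, ?_, ?_⟩
  · simp only [map_mul, map_zpow, e0, e1, e2, e3, Matrix.cons_val]
    simp only [zpow_neg, zpow_one]
    simp only [mul_comm, mul_left_comm, mul_assoc]
  · simp only [map_mul, map_zpow, e0, e1, e2, e3, Matrix.cons_val]
    simp only [zpow_neg, zpow_one, zpow_zero, mul_one, one_mul]
    ac_rfl
  · simp only [map_mul, map_zpow, e0, e1, e2, e3, Matrix.cons_val]
    simp only [zpow_neg, zpow_one, zpow_zero, mul_one, one_mul]

theorem nw_flat (l : List (Fin 2)) : (tw φ).data.nw l = (data D4.good K).nw ((tw φ).flat l) :=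
  RootBN.Twist.nw_data l

/-- An element of an orbit group commuting with a torus element that moves the whole orbit. -/
theorem orbit_eq_one {τ : Fin chevD4.rank → Kˣ} {o : Fin 12} {y : GL chevD4.Idx K}
    (hy : y ∈ (tw φ).X' o) (hc : Commute (torusHom K chevD4 τ) y)
    (hne : ∀ r < chevD4.nroots, orbD4.orbF 12 r = o → torusChar chevD4 τ r ≠ 1) : y = 1 := by
  have hT := tw_axioms φ
  have ax := RootBN.Twist.data_axioms hT
  obtain ⟨l, j, rfl⟩ := ax.reach o
  set L := (tw φ).flat l with hL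
  set n := (data D4.good K).nw L with hn
  have h1 : n⁻¹ * y * n ∈ (tw φ).X' (orbD4.simpF 12 2 j) := by
    have h := ((RootBN.Data.acts_nw ax l) ((tw φ).simp' j) (n⁻¹ * y * n)).1
    rw [nw_flat, ← hn, show n * (n⁻¹ * y * n) * n⁻¹ = y by group] at h
    exact h hy
  obtain ⟨a, -, e⟩ := (mem_X'_simp_iff D4.good orbD4_ok φ facts_chevD4 negTri_chevD4 graphD4_cols j).1 h1
  have hlt : ∀ k ∈ orbD4.Jl 2 j, k < chevD4.rank := (orbD4_ok.2.2.1 j).1.1
  let r : ℕ → ℕ := fun k => if hk : k < chevD4.rank then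
    ((data D4.good K).wl L ⟨chevD4.simple k, D4.good.simple_lt hk⟩).val else 0
  let χ : ℕ → K := fun k => ((torusChar chevD4 τ (r k) : Kˣ) : K)
  have key : ∀ k ∈ orbD4.Jl 2 j, ∀ t : K,
      n⁻¹ * torusHom K chevD4 τ * n * xe D4.good (chevD4.simple k) t *
        (n⁻¹ * torusHom K chevD4 τ * n)⁻¹ = xe D4.good (chevD4.simple k) (χ k * t) := by
    intro k hk t
    have hk' := hlt k hk
    obtain ⟨s, hs, hconj⟩ := conj_nw_xe (K := K) L ⟨chevD4.simple k, D4.good.simple_lt hk'⟩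
    calc _ = n⁻¹ * (torusHom K chevD4 τ * (n * xe D4.good (chevD4.simple k) t * n⁻¹) *
          (torusHom K chevD4 τ)⁻¹) * n := by group
      _ = n⁻¹ * xe D4.good (r k) (χ k * (s * t)) * n := by
        rw [show r k = ((data D4.good K).wl L ⟨chevD4.simple k, D4.good.simple_lt hk'⟩).val from dif_pos hk',
          hn, hconj t, torus_conj τ (Fin.is_lt _)]
        congr 3
        simp only [χ, r, dif_pos hk']
      _ = _ := by
        rw [show χ k * (s * t) = s * (χ k * t) by ring,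
          show r k = ((data D4.good K).wl L ⟨chevD4.simple k, D4.good.simple_lt hk'⟩).val from dif_pos hk',
          ← hconj (χ k * t), hn]
        group
  have h2 : pv D4.good chevD4.simple (orbD4.Jl 2 j) (fun k => χ k * a k) =
      pv D4.good chevD4.simple (orbD4.Jl 2 j) a := by
    have h3 : n⁻¹ * torusHom K chevD4 τ * n * (n⁻¹ * y * n) * (n⁻¹ * torusHom K chevD4 τ * n)⁻¹ =
        n⁻¹ * y * n := by
      calc _ = n⁻¹ * (torusHom K chevD4 τ * y * (torusHom K chevD4 τ)⁻¹) * n := by group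
        _ = _ := by rw [hc.eq, mul_inv_cancel_right]
    rw [e] at h3
    refine Eq.trans ?_ h3
    rw [← MulAut.conj_apply, pv, pv, map_list_prod, List.map_map]
    refine congrArg List.prod (List.map_congr_left fun k hk => ?_)
    rw [Function.comp_apply, MulAut.conj_apply, key k hk]
  have ha : pv D4.good chevD4.simple (orbD4.Jl 2 j) a = 1 := by
    refine List.prod_eq_one fun x hx => ?_
    obtain ⟨k, hk, rfl⟩ := List.mem_map.1 hx
    have e1 := pv_inj D4.good facts_chevD4 negTri_chevD4 (Or.inl rfl) (orbD4_ok.2.2.1 j).1 h2 hk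
    have hk' := hlt k hk
    have hne' : χ k ≠ 1 := by
      intro h
      refine hne (r k) ?_ ?_ (Units.ext h)
      · simp only [r, dif_pos hk']; exact Fin.is_lt _
      · simp only [r, dif_pos hk']
        refine Eq.trans (RootBN.Twist.orb_wl hT l _) ?_
        congr 1
        exact (orb_simple orbD4_ok facts_chevD4 j _).2 ⟨k, hk, rfl⟩
    have : a k = 0 := by
      by_contra h0
      exact hne' (mul_right_cancel₀ h0 (e1.trans (one_mul _).symm))
    rw [this]
    exact xe_zero D4.good (D4.good.simple_lt hk')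
  rw [ha] at e
  calc y = n * (n⁻¹ * y * n) * n⁻¹ := by group
    _ = 1 := by rw [e]; group

/-- The parameters of the elements in the three singleton orbits. -/
theorem mem_X'_seven {y : GL chevD4.Idx K} (hy : y ∈ (tw φ).X' 7) :
    ∃ t, φ t = t ∧ y = xe D4.good 14 t := by
  obtain ⟨a, ha, e⟩ :=
    (mem_X'_simp_iff D4.good orbD4_ok φ facts_chevD4 negTri_chevD4 graphD4_cols 0).1 hy
  refine ⟨a 1, (ha 1 (by decide)).symm, e.trans ?_⟩
  rw [show orbD4.Jl 2 0 = [1] from rfl, pv, List.map_singleton, List.prod_singleton]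
  rfl

theorem mem_X'_high {o : Fin 12} {r : ℕ} (hor : (o, r) ∈ [((10 : Fin 12), 22), ((11 : Fin 12), 23)])
    {y : GL chevD4.Idx K} (hy : y ∈ (tw φ).X' o) : ∃ t, φ t = t ∧ y = xe D4.good r t := by
  have hT := tw_axioms φ
  have ax := RootBN.Twist.data_axioms hT
  obtain ⟨l, hw, hflat⟩ : ∃ l : List (Fin 2), o = (tw φ).data.wl l 7 ∧
      RootBN.evWord WeylTab.tabsD4 (orbD4.flatN 2 l) 14 = r := by
    simp only [List.mem_cons, Prod.mk.injEq, List.not_mem_nil, or_false] at hor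
    rcases hor with ⟨rfl, rfl⟩ | ⟨rfl, rfl⟩
    · exact ⟨[1], by rfl, by decide +kernel⟩
    · exact ⟨[0, 1], by rfl, by decide +kernel⟩
  subst hw
  set n := (tw φ).data.nw l with hn
  have h1 : n⁻¹ * y * n ∈ (tw φ).X' 7 := by
    have h := ((RootBN.Data.acts_nw ax l) 7 (n⁻¹ * y * n)).1
    rw [← hn, show n * (n⁻¹ * y * n) * n⁻¹ = y by group] at h
    exact h hy
  obtain ⟨t, ht, e⟩ := mem_X'_seven φ h1
  obtain ⟨s, hs, hc⟩ := conj_nw_xe (K := K) ((tw φ).flat l) (⟨14, by decide⟩ : Fin chevD4.nroots)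
  refine ⟨s * t, ?_, ?_⟩
  · rw [map_mul, ht]
    rcases mul_self_eq_one_iff.1 hs with h | h <;> simp [h]
  · have h' := hc t
    rw [← nw_flat, ← hn, ← e, show n * (n⁻¹ * y * n) * n⁻¹ = y by group, wl_val D4.good facts_chevD4] at h'
    rw [h']
    congr 1
    rw [show ((tw φ).flat l).map Fin.val = orbD4.flatN 2 l from flat_val D4.good orbD4_ok φ l]
    exact hflat

end Cfsg.Agent.TorusD4
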