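import Cfsg.Agent.Lib.TorusD4.Action

/-!
# Characters of the fixed torus of `³D₄`, and monomial elements
-/

set_option autoImplicit false

namespace Cfsg.Agent.TorusD4

open Cfsg.Lie Cfsg.Agent.Chev Cfsg.Agent.Chev.BNSetup
open Matrix (mulVec)
open scoped Matrix

variable {K : Type*} [Field K]

/-- The coefficients of the roots on the fundamental roots. -/
def coefs : List (List ℤ) :=
  [[-1, -2, -1, -1], [-1, -1, -1, -1], [-1, -1, -1, 0], [-1, -1, 0, -1], [-1, -1, 0, 0], [-1, 0, 0, 0],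
   [0, -1, -1, -1], [0, -1, -1, 0], [0, -1, 0, -1], [0, -1, 0, 0], [0, 0, -1, 0], [0, 0, 0, -1],
   [0, 0, 0, 1], [0, 0, 1, 0], [0, 1, 0, 0], [0, 1, 0, 1], [0, 1, 1, 0], [0, 1, 1, 1], [1, 0, 0, 0],
   [1, 1, 0, 0], [1, 1, 0, 1], [1, 1, 1, 0], [1, 1, 1, 1], [1, 2, 1, 1]]

/-- One coefficient. -/
def m (r j : ℕ) : ℤ := (coefs.getD r []).getD j 0

theorem cartan_coef : ∀ r < 24, ∀ k < 4, chevD4.cartan k r =
    m r 0 * chevD4.cartan k 18 + m r 1 * chevD4.cartan k 14 + m r 2 * chevD4.cartan k 13 +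
      m r 3 * chevD4.cartan k 12 := by decide +kernel

theorem torusChar_coef (c : Fin chevD4.rank → Kˣ) {r : ℕ} (hr : r < chevD4.nroots) :
    torusChar chevD4 c r = torusChar chevD4 c 18 ^ m r 0 * torusChar chevD4 c 14 ^ m r 1 *
      torusChar chevD4 c 13 ^ m r 2 * torusChar chevD4 c 12 ^ m r 3 := by
  simp only [torusChar, ← Finset.prod_zpow, ← Finset.prod_mul_distrib, ← _root_.zpow_mul]
  refine Finset.prod_congr rfl fun k _ => ?_
  rw [← zpow_add, ← zpow_add, ← zpow_add]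
  congr 1
  rw [cartan_coef r hr k.val k.2]
  ring

/-- Conjugation of a root element by the torus. -/
theorem torus_conj (c : Fin chevD4.rank → Kˣ) {r : ℕ} (hr : r < chevD4.nroots) (t : K) :
    torusHom K chevD4 c * xe D4.good r t * (torusHom K chevD4 c)⁻¹ =
      xe D4.good r ((torusChar chevD4 c r : Kˣ) * t) := by
  rw [mul_inv_eq_iff_eq_mul]
  refine Units.ext ?_
  simp only [Units.val_mul, coe_torusHom, coe_xe]
  refine D4.valid.hdiag_mul_x hr ⟨?_, ?_⟩ t
  · rw [← Units.val_mul, ← Units.val_one]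
    congr 1
    simp only [torusChar, ← Finset.prod_mul_distrib]
    refine Finset.prod_eq_one fun i _ => ?_
    rw [← zpow_add]
    have h := D4.valid.base'.1 r hr
    have e1 := (h.2.2.2.1 i.val i.2).1
    rw [D4.valid.A_eq i.2 hr, D4.valid.A_eq i.2 (D4.valid.ng_lt hr), e1, neg_add_cancel, zpow_zero]
  · intro s hs k q hq
    rw [← Units.val_pow_eq_pow_val, ← Units.val_mul]
    congr 1
    simp only [torusChar, ← Finset.prod_pow, ← Finset.prod_mul_distrib]
    refine Finset.prod_congr rfl fun i _ => ?_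
    have hq' : q.1 < chevD4.nroots := D4.valid.ent_lt hr (List.mem_of_getElem? hq)
    rw [D4.valid.A_eq i.2 hq', D4.valid.A_eq i.2 hs, D4.valid.A_eq i.2 hr,
      D4.valid.A_chain hr hq i.2, ← zpow_natCast, ← _root_.zpow_mul, ← zpow_add]
    congr 1
    ring

theorem conj_nw_xe (l : List (Fin chevD4.rank)) (s : Fin chevD4.nroots) :
    ∃ e : K, e * e = 1 ∧ ∀ t, (data D4.good K).nw l * xe D4.good s.val t * ((data D4.good K).nw l)⁻¹ =
      xe D4.good ((data D4.good K).wl l s).val (e * t) := by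
  induction l with
  | nil => exact ⟨1, mul_one 1, fun t => by simp⟩
  | cons i l ih =>
    obtain ⟨e, he, h⟩ := ih
    obtain ⟨e', he', h', -⟩ := exists_conj (F := K) D4.good i.2 ((data D4.good K).wl l s).2
    refine ⟨e' * e, by rw [mul_mul_mul_comm, he, he', mul_one], fun t => ?_⟩
    rw [RootBN.Data.nw_cons, RootBN.Data.wl_cons, Equiv.Perm.mul_apply]
    show ne' D4.good (chevD4.simple i.val) 1 * (data D4.good K).nw l * _ *
      (ne' D4.good (chevD4.simple i.val) 1 * (data D4.good K).nw l)⁻¹ = _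
    rw [show ∀ a b x : GL chevD4.Idx K, a * b * x * (a * b)⁻¹ = a * (b * x * b⁻¹) * a⁻¹ from
      fun a b x => by group, h t, h', mul_assoc e']
    rfl

theorem nw_bvec (l : List (Fin chevD4.rank)) (s : Fin chevD4.nroots) :
    ∃ e : K, e * e = 1 ∧ (((data D4.good K).nw l : GL chevD4.Idx K) : Matrix chevD4.Idx chevD4.Idx K) *ᵥ
        bvec chevD4 K (chevD4.rank + s.val) =
      e • bvec chevD4 K (chevD4.rank + ((data D4.good K).wl l s).val) := by
  induction l with
  | nil => exact ⟨1, mul_one 1, by simp⟩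
  | cons i l ih =>
    obtain ⟨e, he, h⟩ := ih
    set r := (data D4.good K).wl l s
    refine ⟨e * (D4.cert.η i.val r.val : K), ?_, ?_⟩
    · rw [mul_mul_mul_comm, he, D4.valid.eta_cast_sq i.2 r.2, mul_one]
    rw [RootBN.Data.nw_cons, RootBN.Data.wl_cons, Equiv.Perm.mul_apply, Units.val_mul,
      ← Matrix.mulVec_mulVec, h, Matrix.mulVec_smul]
    show e • ((ne' D4.good (chevD4.simple i.val) (1 : K) : GL chevD4.Idx K) :
      Matrix chevD4.Idx chevD4.Idx K) *ᵥ _ = _
    rw [coe_ne', D4.valid.nMat_one_inr i.2 r.2, smul_smul]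
    congr 3
    exact (D4.valid.w_eq_reflectRoot i.2 r.2).symm

end Cfsg.Agent.TorusD4
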